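import Mathlib

/-!
# `³D₄(q)`: the degrees of the characters outside `{1, St, φ}` that do not vanish on the torus `Φ₁₂(q)`
(S2452; helper568)

Pure arithmetic on top of the degree relation `H501.PSq.rel_td`:
`1 + q ^ 12 - e₃ + f b = ε d` with `b, d ∣ |G|`, `b ≡ f`, `d ≡ 4 ε (mod Φ₁₂(q))`: then `f = ε = 1`,
`2 b = q ^ 3 (q ^ 3 - 1) ^ 2` and `d = (q ^ 6 - 1) ^ 2`, for every prime power `q ≥ 4` (`deg_td`, `deg_unique`).
-/

set_option autoImplicit false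

namespace Cfsg.Agent.H568.TD

section core

variable {q m P X : ℤ}

theorem pos_of_mul_pos_of_pos_left' {a b : ℤ} (h : 0 < a * b) (ha : 0 < a) : 0 < b := by
  by_contra hcon
  push Not at hcon
  have := mul_nonpos_of_nonneg_of_nonpos ha.le hcon
  linarith

theorem res (hm : m ∣ q ^ 3) (hP : P = q ^ 4 - q ^ 2 + 1) {n c0 r : ℤ} (h : m ∣ c0 + n * P - r) :
    m ∣ n + (c0 - r) * (1 + q ^ 2) := by
  have e : n + (c0 - r) * (1 + q ^ 2) = (c0 + n * P - r) * (1 + q ^ 2) - q ^ 3 * (n * q ^ 3) := by rw [hP]; ring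
  rw [e]
  exact dvd_sub (h.mul_right _) (hm.mul_right _)

theorem X_sub_one (hm : m ∣ q ^ 3) (hX : X = (q ^ 6 - 1) ^ 2) : m ∣ X - 1 := by
  have e : X - 1 = q ^ 3 * (q ^ 3 * (q ^ 6 - 2)) := by rw [hX]; ring
  rw [e]
  exact hm.mul_right _

theorem X_sub_four (hP : P = q ^ 4 - q ^ 2 + 1) (hX : X = (q ^ 6 - 1) ^ 2) :
    X - 4 = P * ((q ^ 6 - 3) * (q ^ 2 + 1)) := by rw [hX, hP]; ring

theorem le_of_sub {b u : ℤ} {f : ℤ} (hf : f = 1 ∨ f = -1) (hb : 0 < b) (hP : 0 < P) {k : ℤ} (h : f * b = k + u * P)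
    (hk : 0 ≤ k) : |u| * P - k ≤ b := by
  have h1 : |f * b| = b := by
    rcases hf with rfl | rfl
    · rw [one_mul, abs_of_pos hb]
    · rw [neg_one_mul, abs_neg, abs_of_pos hb]
  have h2 : |u| * P = |u * P| := by rw [abs_mul, abs_of_pos hP]
  have h3 : |u * P| = |f * b - k| := by rw [h]; congr 1; ring
  have h4 : |f * b - k| ≤ |f * b| + |k| := abs_sub _ _
  rw [h1, abs_of_nonneg hk] at h4
  rw [h2, h3]
  linarith

/-- the size of the cofactor -/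
theorem size {b c n K L : ℤ} (hX0 : b * c = X) (hb : L ≤ b) (hL : 0 < L) (hn : |n| * P - 4 ≤ c)
    (hP : 0 < P) (hK : X < (K * P - 4) * L) (hK0 : 0 < K * P - 4) : |n| < K := by
  by_contra hcon
  push Not at hcon
  have h1 : K * P - 4 ≤ |n| * P - 4 := by nlinarith
  have h2 : K * P - 4 ≤ c := h1.trans hn
  have h3 : (K * P - 4) * L ≤ c * b := mul_le_mul h2 hb hL.le (hK0.le.trans h2)
  rw [mul_comm c b, hX0] at h3
  linarith

/-- **the exceptional degree** -/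
theorem core_d {m d c e : ℤ} (hq : 4 ≤ q) (hq6 : q ≠ 6) (hm : m ∣ q ^ 3) (hm0 : 0 < m) (hm2 : q ^ 3 ≤ 2 * m)
    (hP : P = q ^ 4 - q ^ 2 + 1) (hX : X = (q ^ 6 - 1) ^ 2) (hd : 0 < d) (hdc : d * c = X) (he : e = 1 ∨ e = -1)
    (h1 : P ∣ e * d - 4) (h2 : m ∣ e * d - 1) (hlt : 4 * d < q ^ 12) : False := by
  have hq0 : 0 < q := by linarith
  have hP0 : 241 ≤ P := by
    rw [hP]
    nlinarith [mul_self_nonneg (q ^ 2 - 16), sq_nonneg q]
  have hX0 : 0 < X := by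
    rw [hX]
    have : 0 < q ^ 6 - 1 := by
      have : 1 < q ^ 6 := one_lt_pow₀ (by linarith) (by norm_num)
      linarith
    positivity
  have hc : 0 < c := by
    by_contra hcon
    push Not at hcon
    nlinarith
  have hee : e * e = 1 := by rcases he with rfl | rfl <;> norm_num
  have hprod : (e * d) * (e * c) = X := by
    calc (e * d) * (e * c) = (e * e) * (d * c) := by ring
      _ = X := by rw [hee, hdc, one_mul]
  -- the cofactor
  have hcm : m ∣ e * c - 1 := by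
    have e1 : e * c - 1 = (X - 1) - (e * c) * (e * d - 1) := by rw [← hprod]; ring
    rw [e1]
    exact dvd_sub (X_sub_one hm hX) (h2.mul_left _)
  have hcP : P ∣ e * c - 1 := by
    have e1 : 4 * (e * c - 1) = (X - 4) - (e * c) * (e * d - 4) := by rw [← hprod]; ring
    have h3 : P ∣ 4 * (e * c - 1) := by
      rw [e1]
      exact dvd_sub ⟨_, X_sub_four hP hX⟩ (h1.mul_left _)
    have hcop : IsCoprime P 4 := by
      have hev : (2 : ℤ) ∣ q ^ 4 - q ^ 2 := by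
        rcases Int.even_or_odd' q with ⟨k, rfl | rfl⟩
        · exact ⟨8 * k ^ 4 - 2 * k ^ 2, by ring⟩
        · exact ⟨8 * k ^ 4 + 16 * k ^ 3 + 10 * k ^ 2 + 2 * k, by ring⟩
      obtain ⟨k, hk⟩ := hev
      have h2 : IsCoprime P 2 := ⟨1, -k, by rw [hP]; linarith⟩
      have : (4 : ℤ) = 2 * 2 := by norm_num
      rw [this]
      exact h2.mul_right h2
    exact hcop.dvd_of_dvd_mul_left h3
  have hcopm : IsCoprime m P := by
    have h3 : IsCoprime q P := ⟨q - q ^ 3, 1, by rw [hP]; ring⟩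
    exact IsCoprime.of_isCoprime_of_dvd_left (h3.pow_left (m := 3)) hm
  have hmP : m * P ∣ e * c - 1 := hcopm.mul_dvd hcm hcP
  have hmP0 : 0 < m * P := by positivity
  have hbig : m * P - 1 ≤ c := by
    by_cases h0 : e * c - 1 = 0
    · exfalso
      have hc1 : c = 1 := by
        rcases he with rfl | rfl
        · linarith
        · linarith
      rw [hc1, mul_one] at hdc
      have h3 : 4 * (q ^ 6 - 1) ^ 2 < q ^ 12 := by rw [← hX, ← hdc]; exact hlt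
      have h6 : (2 : ℤ) ≤ q ^ 6 := by
        have : (4 : ℤ) ^ 6 ≤ q ^ 6 := pow_le_pow_left₀ (by norm_num) hq 6
        linarith
      nlinarith
    · have h3 := Int.le_of_dvd (abs_pos.2 h0) ((dvd_abs _ _).2 hmP)
      have h4 : |e * c - 1| ≤ |e * c| + |(1 : ℤ)| := abs_sub _ _
      have h5 : |e * c| = c := by
        rcases he with rfl | rfl
        · rw [one_mul, abs_of_pos hc]
        · rw [neg_one_mul, abs_neg, abs_of_pos hc]
      rw [h5, abs_one] at h4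
      linarith
  obtain ⟨n, hn⟩ := h1
  have hn' : e * d = 4 + n * P := by linarith
  have hnd : |n| * P - 4 ≤ d := le_of_sub he hd (by linarith) hn' (by norm_num)
  have hres : m ∣ n + 3 * (1 + q ^ 2) := by
    have h3 : m ∣ 4 + n * P - 1 := by rw [← hn']; exact h2
    have := res hm hP h3
    norm_num at this
    exact this
  have hmq : m ≤ q ^ 3 := Int.le_of_dvd (by positivity) hm
  have hL : 0 < m * P - 1 := by nlinarith
  have hK : |n| < 3 * q := by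
    refine size (b := c) (c := d) (L := m * P - 1) (by rw [mul_comm, hdc]) hbig hL hnd (by linarith) ?_ (by nlinarith)
    -- the inequality
    have h3 : q ^ 3 * P - 2 ≤ 2 * (m * P - 1) := by nlinarith
    have h4 : 0 < 3 * q * P - 4 := by nlinarith
    have h5 : (3 * q * P - 4) * (q ^ 3 * P - 2) ≤ (3 * q * P - 4) * (2 * (m * P - 1)) :=
      mul_le_mul_of_nonneg_left h3 h4.le
    have h6 : 2 * X < (3 * q * P - 4) * (q ^ 3 * P - 2) := by
      obtain ⟨t, rfl⟩ : ∃ t, q = t + 4 := ⟨q - 4, by ring⟩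
      have ht : 0 ≤ t := by linarith
      rw [hX, hP]
      rw [← sub_pos]
      ring_nf
      positivity
    linarith
  have hn1 : -(3 * q) < n := (abs_lt.1 hK).1
  have hn2 : n < 3 * q := (abs_lt.1 hK).2
  obtain ⟨w, hw⟩ := hres
  rcases lt_or_ge q 8 with h8 | h8
  · have h9 : q = 4 ∨ q = 5 ∨ q = 7 := by omega
    obtain ⟨k, hk⟩ := hm
    have hk0 : 0 < k := by
      by_contra hcon
      push Not at hcon
      nlinarith [pow_pos hq0 3]
    have hk2 : k ≤ 2 := by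
      by_contra hcon
      push Not at hcon
      nlinarith [pow_pos hq0 3]
    rcases h9 with rfl | rfl | rfl
    · have h10 : m = 64 ∨ m = 32 := by interval_cases k <;> omega
      rcases h10 with rfl | rfl <;> omega
    · have h10 : m = 125 := by interval_cases k <;> omega
      subst h10
      omega
    · have h10 : m = 343 := by interval_cases k <;> omega
      subst h10
      omega
  · have hw0 : 0 < m * w := by rw [← hw]; nlinarith
    have hw1 : 0 < w := by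
      by_contra hcon
      push Not at hcon
      nlinarith
    have h9 : m ≤ m * w := by nlinarith
    rw [← hw] at h9
    nlinarith [mul_self_nonneg (q - 8)]

/-- **the middle degree** -/
theorem core_b {m b c f : ℤ} (hq : 4 ≤ q) (hq6 : q ≠ 6) (hq10 : q ≠ 10) (hm : m ∣ q ^ 3) (hm0 : 0 < m)
    (hm2 : q ^ 3 ≤ 2 * m) (hP : P = q ^ 4 - q ^ 2 + 1) (hX : X = (q ^ 6 - 1) ^ 2) (hb : 0 < b) (hbc : b * c = X)
    (hf : f = 1 ∨ f = -1) (h1 : P ∣ f * b - 1) (h2 : m ∣ f * b + 1) (hlt : b * (P - 4) ≤ X) : False := by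
  have hq0 : 0 < q := by linarith
  have hP0 : 241 ≤ P := by
    rw [hP]
    nlinarith [mul_self_nonneg (q ^ 2 - 16), sq_nonneg q]
  have hX0 : 0 < X := by
    rw [hX]
    have : 0 < q ^ 6 - 1 := by
      have : 1 < q ^ 6 := one_lt_pow₀ (by linarith) (by norm_num)
      linarith
    positivity
  have hc : 0 < c := by
    by_contra hcon
    push Not at hcon
    nlinarith
  have hff : f * f = 1 := by rcases hf with rfl | rfl <;> norm_num
  have hprod : (f * b) * (f * c) = X := by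
    calc (f * b) * (f * c) = (f * f) * (b * c) := by ring
      _ = X := by rw [hff, hbc, one_mul]
  obtain ⟨u, hu⟩ := h1
  have hu' : f * b = 1 + u * P := by linarith
  have hub : |u| * P - 1 ≤ b := le_of_sub hf hb (by linarith) hu' (by norm_num)
  have hru : m ∣ u + 2 * (1 + q ^ 2) := by
    have h3 : m ∣ 1 + u * P - (-1) := by
      have : 1 + u * P - (-1) = f * b + 1 := by rw [hu']; ring
      rw [this]
      exact h2
    have := res hm hP h3
    norm_num at this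
    exact this
  obtain ⟨v, hv⟩ := hru
  -- the cofactor
  have hcm : m ∣ f * c + 1 := by
    have e1 : f * c + 1 = (f * c) * (f * b + 1) - (X - 1) := by rw [← hprod]; ring
    rw [e1]
    exact dvd_sub (h2.mul_left _) (X_sub_one hm hX)
  obtain ⟨n, hn⟩ : ∃ n, f * c = 4 + n * P := by
    refine ⟨(q ^ 6 - 3) * (q ^ 2 + 1) - u * (f * c), ?_⟩
    have e1 := X_sub_four hP hX
    have e2 : (1 + u * P) * (f * c) = X := by rw [← hu', hprod]
    linarith
  have hnc : |n| * P - 4 ≤ c := le_of_sub hf hc (by linarith) hn (by norm_num)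
  have hres : m ∣ n + 5 * (1 + q ^ 2) := by
    have h3 : m ∣ 4 + n * P - (-1) := by
      have : 4 + n * P - (-1) = f * c + 1 := by rw [hn]; ring
      rw [this]
      exact hcm
    have := res hm hP h3
    norm_num at this
    exact this
  obtain ⟨w, hw⟩ := hres
  -- the first case
  by_cases hv0 : v = 0
  · rw [hv0, mul_zero] at hv
    have hu2 : u = -(2 * (1 + q ^ 2)) := by linarith
    have e1 : f * b = -(2 * q ^ 6 + 1) := by rw [hu', hu2, hP]; ring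
    have h6 : (4096 : ℤ) ≤ q ^ 6 := by
      have : (4 : ℤ) ^ 6 ≤ q ^ 6 := pow_le_pow_left₀ (by norm_num) hq 6
      linarith
    have e2 : b = 2 * q ^ 6 + 1 := by
      rcases hf with rfl | rfl
      · exfalso; linarith
      · linarith
    have e3 : (2 * q ^ 6 + 1) ∣ 9 := by
      have e4 : (9 : ℤ) = 4 * (b * c) - (2 * q ^ 6 + 1) * (2 * q ^ 6 + 1 - 6) := by rw [hbc, hX]; ring
      rw [e4]
      refine dvd_sub (Dvd.dvd.mul_left ?_ _) (dvd_mul_right _ _)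
      rw [← e2]
      exact dvd_mul_right b c
    have := Int.le_of_dvd (by norm_num) e3
    linarith
  -- the second case
  have hvm : m ≤ |u + 2 * (1 + q ^ 2)| := by
    rw [hv, abs_mul, abs_of_pos hm0]
    have : 1 ≤ |v| := Int.one_le_abs hv0
    nlinarith
  have hum : m - 2 * (1 + q ^ 2) ≤ |u| := by
    have h3 : |u + 2 * (1 + q ^ 2)| ≤ |u| + |2 * (1 + q ^ 2)| := abs_add_le _ _
    rw [abs_of_pos (by positivity : 0 < 2 * (1 + q ^ 2))] at h3
    linarith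
  have hL : (m - 2 * (1 + q ^ 2)) * P - 1 ≤ b := by nlinarith
  rcases lt_or_ge q 12 with h12 | h12
  · have h9 : q = 4 ∨ q = 5 ∨ q = 7 ∨ q = 8 ∨ q = 9 ∨ q = 11 := by omega
    obtain ⟨k, hk⟩ := hm
    have hk0 : 0 < k := by
      by_contra hcon
      push Not at hcon
      nlinarith [pow_pos hq0 3]
    have hk2 : k ≤ 2 := by
      by_contra hcon
      push Not at hcon
      nlinarith [pow_pos hq0 3]
    rcases h9 with rfl | rfl | rfl | rfl | rfl | rfl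
    · norm_num at hP hX
      subst hP hX
      have hul : |u| < 294 := by omega
      obtain ⟨hu1, hu2⟩ := abs_lt.1 hul
      obtain ⟨v', hv'⟩ : ∃ v', u = 32 * v' - 34 := by
        have h10 : m = 64 ∨ m = 32 := by interval_cases k <;> omega
        rcases h10 with rfl | rfl
        · exact ⟨2 * v, by linarith⟩
        · exact ⟨v, by linarith⟩
      have hv1 : -9 < v' := by omega
      have hv2 : v' < 11 := by omega
      interval_cases v' <;> norm_num at hv' <;> subst hv' <;> rcases hf with rfl | rfl <;> norm_num at hu' <;>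
        first
        | (exfalso; linarith)
        | (subst hu'; omega)
    · have h10 : m = 125 := by interval_cases k <;> omega
      subst h10
      norm_num at hP hX
      subst hP hX
      have hL' : (43872 : ℤ) ≤ b := by linarith
      have hK : |n| < 10 := size (K := 10) hbc hL' (by norm_num) hnc (by norm_num) (by norm_num) (by norm_num)
      obtain ⟨hn1, hn2⟩ := abs_lt.1 hK
      have hn5 : n = -5 := by omega
      subst hn5
      rcases hf with rfl | rfl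
      · omega
      · have : c = 3001 := by linarith
        subst this
        omega
    · have h10 : m = 343 := by interval_cases k <;> omega
      subst h10
      norm_num at hP hX
      subst hP hX
      have hL' : (571778 : ℤ) ≤ b := by linarith
      have hK : |n| < 35 := size (K := 35) hbc hL' (by norm_num) hnc (by norm_num) (by norm_num) (by norm_num)
      obtain ⟨hn1, hn2⟩ := abs_lt.1 hK
      omega
    · have h10 : m = 512 ∨ m = 256 := by interval_cases k <;> omega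
      norm_num at hP hX
      subst hP hX
      rcases h10 with rfl | rfl
      · have hL' : (508157 : ℤ) ≤ b := by linarith
        have hK : |n| < 40 := size (K := 40) hbc hL' (by norm_num) hnc (by norm_num) (by norm_num) (by norm_num)
        obtain ⟨hn1, hn2⟩ := abs_lt.1 hK
        omega
      · have hL' : (508157 : ℤ) ≤ b := by linarith
        have hK : |n| < 40 := size (K := 40) hbc hL' (by norm_num) hnc (by norm_num) (by norm_num) (by norm_num)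
        obtain ⟨hn1, hn2⟩ := abs_lt.1 hK
        omega
    · have h10 : m = 729 := by interval_cases k <;> omega
      subst h10
      norm_num at hP hX
      subst hP hX
      have hL' : (3661764 : ℤ) ≤ b := by linarith
      have hK : |n| < 45 := size (K := 45) hbc hL' (by norm_num) hnc (by norm_num) (by norm_num) (by norm_num)
      obtain ⟨hn1, hn2⟩ := abs_lt.1 hK
      omega
    · have h10 : m = 1331 := by interval_cases k <;> omega
      subst h10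
      norm_num at hP hX
      subst hP hX
      have hL' : (15784326 : ℤ) ≤ b := by linarith
      have hK : |n| < 55 := size (K := 55) hbc hL' (by norm_num) hnc (by norm_num) (by norm_num) (by norm_num)
      obtain ⟨hn1, hn2⟩ := abs_lt.1 hK
      omega
  · have g1 : 12 * q ≤ q ^ 2 := by rw [pow_two]; exact mul_le_mul_of_nonneg_right h12 hq0.le
    have g2 : 12 * q ^ 2 ≤ q ^ 3 := by
      rw [pow_succ' q 2]; exact mul_le_mul_of_nonneg_right h12 (by positivity)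
    have h13 : 0 < q ^ 3 - 4 * q ^ 2 - 4 := by linarith
    have h14 : q ^ 3 - 4 * q ^ 2 - 4 ≤ 2 * (m - 2 * (1 + q ^ 2)) := by linarith
    have h15 : (q ^ 3 - 4 * q ^ 2 - 4) * P ≤ 2 * (m - 2 * (1 + q ^ 2)) * P :=
      mul_le_mul_of_nonneg_right h14 (by linarith)
    have h16 : 1 * P ≤ (q ^ 3 - 4 * q ^ 2 - 4) * P := mul_le_mul_of_nonneg_right (by linarith) (by linarith)
    have hL0 : 0 < (m - 2 * (1 + q ^ 2)) * P - 1 := by linarith
    have h17 : 1 * P ≤ 5 * q * P := mul_le_mul_of_nonneg_right (by linarith) (by linarith)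
    have h4 : 0 < 5 * q * P - 4 := by linarith
    have hK : |n| < 5 * q := by
      refine size (b := b) (c := c) hbc hL hL0 hnc (by linarith) ?_ h4
      have h3 : (q ^ 3 - 4 * q ^ 2 - 4) * P - 2 ≤ 2 * ((m - 2 * (1 + q ^ 2)) * P - 1) := by linarith
      have h5 : (5 * q * P - 4) * ((q ^ 3 - 4 * q ^ 2 - 4) * P - 2) ≤
          (5 * q * P - 4) * (2 * ((m - 2 * (1 + q ^ 2)) * P - 1)) := mul_le_mul_of_nonneg_left h3 h4.le
      have h6 : 2 * X < (5 * q * P - 4) * ((q ^ 3 - 4 * q ^ 2 - 4) * P - 2) := by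
        obtain ⟨t, rfl⟩ : ∃ t, q = t + 12 := ⟨q - 12, by ring⟩
        have ht : 0 ≤ t := by linarith
        rw [hX, hP]
        rw [← sub_pos]
        ring_nf
        positivity
      linarith
    have hn1 : -(5 * q) < n := (abs_lt.1 hK).1
    have hn2 : n < 5 * q := (abs_lt.1 hK).2
    have hw0 : 0 < m * w := by rw [← hw]; linarith
    have hw1 : 0 < w := pos_of_mul_pos_of_pos_left' hw0 hm0
    have h9 : m * 1 ≤ m * w := mul_le_mul_of_nonneg_left (by linarith) hm0.le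
    rw [← hw] at h9
    linarith

end core

section glue

/-- a divisor of `q ^ 12 Y` slightly smaller than `Y` is divisible by `q ^ 3` -/
theorem q3_dvd {p a q d Y : ℕ} (hp : p.Prime) (hq : q = p ^ a) (hd : d ∣ q ^ 12 * Y) (h1 : d < Y)
    (h2 : q ^ 3 * (Y - d) < d) : q ^ 3 ∣ d := by
  obtain ⟨d1, d', hd1, hd', rfl⟩ := (Nat.dvd_mul).1 hd
  rw [hq, ← pow_mul] at hd1
  obtain ⟨j, -, rfl⟩ := (Nat.dvd_prime_pow hp).1 hd1
  obtain ⟨k, hk⟩ := hd'
  have hd0 : 0 < p ^ j * d' := by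
    rcases Nat.eq_zero_or_pos (p ^ j * d') with h0 | h0
    · rw [h0] at h2
      omega
    · exact h0
  have e1 : k * (p ^ j * d') = p ^ j * Y := by rw [hk]; ring
  have hlt : q ^ 3 < p ^ j := by
    by_contra hcon
    push Not at hcon
    have h3 : p ^ j * (p ^ j * d') < k * (p ^ j * d') := by
      rw [e1]
      exact Nat.mul_lt_mul_of_pos_left h1 (pow_pos hp.pos j)
    have h4 : p ^ j < k := lt_of_mul_lt_mul_right h3 (Nat.zero_le _)
    have h5 : (p ^ j + 1) * (p ^ j * d') ≤ p ^ j * Y := by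
      rw [← e1]
      exact Nat.mul_le_mul_right _ h4
    have h6 : p ^ j * d' ≤ p ^ j * (Y - p ^ j * d') := by
      rw [Nat.mul_sub]
      apply Nat.le_sub_of_add_le
      calc p ^ j * d' + p ^ j * (p ^ j * d') = (p ^ j + 1) * (p ^ j * d') := by ring
        _ ≤ _ := h5
    have h7 : p ^ j * (Y - p ^ j * d') ≤ q ^ 3 * (Y - p ^ j * d') := Nat.mul_le_mul_right _ hcon
    omega
  have h8 : q ^ 3 ∣ p ^ j := by
    rw [hq, ← pow_mul] at hlt ⊢
    exact pow_dvd_pow p ((Nat.pow_lt_pow_iff_right hp.one_lt).1 hlt).le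
  exact h8.mul_right _

theorem exists_m (q : ℕ) (hq : 0 < q) : ∃ m : ℤ, m ∣ (q : ℤ) ^ 3 ∧ 0 < m ∧ (q : ℤ) ^ 3 ≤ 2 * m ∧
    ∀ z : ℤ, (q : ℤ) ^ 3 ∣ 2 * z → m ∣ z := by
  have hq' : (0 : ℤ) < q := by exact_mod_cast hq
  rcases Int.even_or_odd' (q : ℤ) with ⟨k, hk | hk⟩
  · have hk0 : 0 < k := by linarith
    have e : (q : ℤ) ^ 3 = 2 * (4 * k ^ 3) := by rw [hk]; ring
    refine ⟨4 * k ^ 3, ⟨2, by rw [e]; ring⟩, by positivity, by rw [e], fun z hz => ?_⟩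
    rw [e] at hz
    exact (mul_dvd_mul_iff_left (by norm_num : (2 : ℤ) ≠ 0)).1 hz
  · refine ⟨(q : ℤ) ^ 3, dvd_rfl, by positivity, by
      have : (0 : ℤ) < (q : ℤ) ^ 3 := by positivity
      linarith, fun z hz => ?_⟩
    have h3 : IsCoprime ((q : ℤ) ^ 3) 2 := IsCoprime.pow_left ⟨1, -k, by rw [hk]; ring⟩
    exact h3.dvd_of_dvd_mul_left hz

theorem prime_dvd_e3 {p a q e3 : ℕ} (hp : p.Prime) (ha : 0 < a) (hq : q = p ^ a)
    (h3 : 2 * e3 = q ^ 3 * (q ^ 3 + 1) ^ 2) : p ∣ e3 := by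
  have hpq : p ∣ q := by rw [hq]; exact dvd_pow_self p ha.ne'
  rcases eq_or_ne p 2 with rfl | h2
  · obtain ⟨k, hk⟩ := hpq
    have e : 2 * e3 = 2 * (2 * (2 * k ^ 3 * (q ^ 3 + 1) ^ 2)) := by
      rw [h3]
      nth_rw 1 [hk]
      ring
    exact ⟨_, mul_left_cancel₀ (by norm_num) e⟩
  · have h5 : p ∣ 2 * e3 := by
      rw [h3]
      exact ((dvd_pow hpq (by norm_num : (3 : ℕ) ≠ 0))).mul_right _
    rcases hp.dvd_mul.1 h5 with h6 | h6
    · exact absurd ((Nat.prime_dvd_prime_iff_eq hp Nat.prime_two).1 h6) h2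
    · exact h6

theorem ineq {Q P X z : ℤ} (hQ : 4 ≤ Q) (hP : P = Q ^ 4 - Q ^ 2 + 1) (hX : X = (Q ^ 6 - 1) ^ 2) (hz : z * (P - 4) ≤ X) :
    2 * z < Q ^ 9 - 2 * Q ^ 6 + Q ^ 3 ∧ 2 * z * (Q ^ 3 + 1) < Q ^ 12 + Q ^ 9 - 3 * Q ^ 6 - Q ^ 3 + 2 := by
  have hP0 : 0 < P - 4 := by
    rw [hP]
    nlinarith [mul_self_nonneg (Q ^ 2 - 16), sq_nonneg Q]
  have hQ3 : 0 < Q ^ 3 + 1 := by positivity
  constructor
  · by_contra hcon
    push Not at hcon
    have h1 : (Q ^ 9 - 2 * Q ^ 6 + Q ^ 3) * (P - 4) ≤ 2 * z * (P - 4) := mul_le_mul_of_nonneg_right hcon hP0.le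
    have h2 : 2 * X < (Q ^ 9 - 2 * Q ^ 6 + Q ^ 3) * (P - 4) := by
      obtain ⟨t, rfl⟩ : ∃ t, Q = t + 4 := ⟨Q - 4, by ring⟩
      have ht : 0 ≤ t := by linarith
      rw [hX, hP, ← sub_pos]
      ring_nf
      positivity
    linarith
  · by_contra hcon
    push Not at hcon
    have h1 : (Q ^ 12 + Q ^ 9 - 3 * Q ^ 6 - Q ^ 3 + 2) * (P - 4) ≤ 2 * z * (Q ^ 3 + 1) * (P - 4) :=
      mul_le_mul_of_nonneg_right hcon hP0.le
    have h3 : z * (P - 4) * (Q ^ 3 + 1) ≤ X * (Q ^ 3 + 1) := mul_le_mul_of_nonneg_right hz hQ3.le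
    have h2 : 2 * (X * (Q ^ 3 + 1)) < (Q ^ 12 + Q ^ 9 - 3 * Q ^ 6 - Q ^ 3 + 2) * (P - 4) := by
      obtain ⟨t, rfl⟩ : ∃ t, Q = t + 4 := ⟨Q - 4, by ring⟩
      have ht : 0 ≤ t := by linarith
      rw [hX, hP, ← sub_pos]
      ring_nf
      positivity
    have h4 : 2 * z * (Q ^ 3 + 1) * (P - 4) = 2 * (z * (P - 4) * (Q ^ 3 + 1)) := by ring
    rw [h4] at h1
    linarith

theorem coprime_four {Q P : ℤ} (hP : P = Q ^ 4 - Q ^ 2 + 1) : IsCoprime P 4 := by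
  have hev : (2 : ℤ) ∣ Q ^ 4 - Q ^ 2 := by
    rcases Int.even_or_odd' Q with ⟨k, rfl | rfl⟩
    · exact ⟨8 * k ^ 4 - 2 * k ^ 2, by ring⟩
    · exact ⟨8 * k ^ 4 + 16 * k ^ 3 + 10 * k ^ 2 + 2 * k, by ring⟩
  obtain ⟨k, hk⟩ := hev
  have h2 : IsCoprime P 2 := ⟨1, -k, by rw [hP]; linarith⟩
  have : (4 : ℤ) = 2 * 2 := by norm_num
  rw [this]
  exact h2.mul_right h2

theorem abs_sign {f : ℤ} (hf : f = 1 ∨ f = -1) {c : ℤ} (hc : 0 < c) : |f * c| = c := by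
  rcases hf with rfl | rfl
  · rw [one_mul, abs_of_pos hc]
  · rw [neg_one_mul, abs_neg, abs_of_pos hc]

/-- a cofactor -/
theorem le_cof {f c P k : ℤ} (hf : f = 1 ∨ f = -1) (hc : 0 < c) (hk : 0 ≤ k) (h : P ∣ f * c - k) (h0 : f * c - k ≠ 0) :
    P - k ≤ c := by
  have h3 := Int.le_of_dvd (abs_pos.2 h0) ((dvd_abs _ _).2 h)
  have h4 : |f * c - k| ≤ |f * c| + |k| := abs_sub _ _
  rw [abs_sign hf hc, abs_of_nonneg hk] at h4
  linarith

theorem atoms {Q : ℤ} (hQ : 4 ≤ Q) : 64 ≤ Q ^ 3 ∧ 64 * Q ^ 3 ≤ Q ^ 6 ∧ 64 * Q ^ 6 ≤ Q ^ 9 ∧ 64 * Q ^ 9 ≤ Q ^ 12 := by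
  have h3 : 64 ≤ Q ^ 3 := by
    have : (4 : ℤ) ^ 3 ≤ Q ^ 3 := pow_le_pow_left₀ (by norm_num) hQ 3
    linarith
  have h0 : 0 ≤ Q := by linarith
  refine ⟨h3, ?_, ?_, ?_⟩
  · have := mul_le_mul_of_nonneg_right h3 (by positivity : 0 ≤ Q ^ 3)
    linarith [this, (by ring : Q ^ 3 * Q ^ 3 = Q ^ 6)]
  · have := mul_le_mul_of_nonneg_right h3 (by positivity : 0 ≤ Q ^ 6)
    linarith [this, (by ring : Q ^ 3 * Q ^ 6 = Q ^ 9)]
  · have := mul_le_mul_of_nonneg_right h3 (by positivity : 0 ≤ Q ^ 9)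
    linarith [this, (by ring : Q ^ 3 * Q ^ 9 = Q ^ 12)]

theorem q3_lt {Q D z w : ℤ} (hQ : 4 ≤ Q) (h1 : 2 * D ≤ Q ^ 9 - 2 * Q ^ 6 + Q ^ 3 + 2 * z)
    (h2 : 2 * z * (Q ^ 3 + 1) < Q ^ 12 + Q ^ 9 - 3 * Q ^ 6 - Q ^ 3 + 2)
    (h3 : 2 * Q ^ 12 - Q ^ 9 - 2 * Q ^ 6 - Q ^ 3 + 2 - 2 * z ≤ 2 * w) : Q ^ 3 * D < w := by
  have h4 : Q ^ 3 * (2 * D) ≤ Q ^ 3 * (Q ^ 9 - 2 * Q ^ 6 + Q ^ 3 + 2 * z) :=
    mul_le_mul_of_nonneg_left h1 (by positivity)
  have e1 : Q ^ 3 * (Q ^ 9 - 2 * Q ^ 6 + Q ^ 3 + 2 * z) = Q ^ 12 - 2 * Q ^ 9 + Q ^ 6 + 2 * z * (Q ^ 3 + 1) - 2 * z := by ring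
  rw [e1] at h4
  have e2 : Q ^ 3 * (2 * D) = 2 * (Q ^ 3 * D) := by ring
  rw [e2] at h4
  linarith

section

variable {p a q b d e3 m : ℕ} {Q P X f ε : ℤ}

theorem caseB4 (hp : p.Prime) (hq : q = p ^ a) (hQ4 : 4 ≤ Q) {Y : ℕ} (hX : (Y : ℤ) = (Q ^ 6 - 1) ^ 2)
    (h3' : 2 * (e3 : ℤ) = Q ^ 3 * (Q ^ 3 + 1) ^ 2) (hd : d ∣ q ^ 12 * Y) (hpQ : (p : ℤ) ∣ Q) (hpd : p ∣ d)
    (hbc : (b : ℤ) * 4 = Y) (hε : ε = 1 ∨ ε = -1) (h' : 1 + Q ^ 12 - e3 + b = ε * d) (hd0' : (0 : ℤ) < d) : False := by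
  obtain ⟨g3, g6, g9, g12⟩ := atoms hQ4
  have hX' : (Y : ℤ) = Q ^ 12 - 2 * Q ^ 6 + 1 := by rw [hX]; ring
  have h3'' : 2 * (e3 : ℤ) = Q ^ 9 + 2 * Q ^ 6 + Q ^ 3 := by rw [h3']; ring
  have hε1 : ε = 1 := by
    rcases hε with h1 | h1
    · exact h1
    · rw [h1] at h'
      exfalso
      linarith
  rw [hε1, one_mul] at h'
  have e4 : 4 * (d : ℤ) = 5 * Q ^ 12 - 2 * Q ^ 9 - 6 * Q ^ 6 - 2 * Q ^ 3 + 5 := by linarith
  have hp5 : (p : ℤ) ∣ 5 := by
    have e5 : (5 : ℤ) = 4 * d - Q * (5 * Q ^ 11 - 2 * Q ^ 8 - 6 * Q ^ 5 - 2 * Q ^ 2) := by rw [e4]; ring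
    rw [e5]
    exact dvd_sub (Dvd.dvd.mul_left (by exact_mod_cast hpd) _) (hpQ.mul_right _)
  have hp5' : p = 5 := (Nat.prime_dvd_prime_iff_eq hp (by norm_num)).1 (by exact_mod_cast hp5)
  have h25 : ¬ 25 ∣ d := by
    intro h25
    have h25' : (25 : ℤ) ∣ d := by exact_mod_cast h25
    have hQ5 : (25 : ℤ) ∣ Q ^ 3 := by
      have h5 : (5 : ℤ) ∣ Q := by rw [hp5'] at hpQ; exact_mod_cast hpQ
      obtain ⟨w, hw⟩ := h5
      exact ⟨5 * w ^ 3, by rw [hw]; ring⟩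
    have e5 : (5 : ℤ) = 4 * d - Q ^ 3 * (5 * Q ^ 9 - 2 * Q ^ 6 - 6 * Q ^ 3 - 2) := by rw [e4]; ring
    have : (25 : ℤ) ∣ 5 := by
      rw [e5]
      exact dvd_sub (h25'.mul_left _) (hQ5.mul_right _)
    norm_num at this
  have hd5 : d ∣ 5 * Y := by
    obtain ⟨d1, d', hd1, hd', rfl⟩ := (Nat.dvd_mul).1 hd
    rw [hq, ← pow_mul, hp5'] at hd1
    obtain ⟨j, -, rfl⟩ := (Nat.dvd_prime_pow (by norm_num)).1 hd1
    refine Nat.mul_dvd_mul ?_ hd'
    have hj : j < 2 := by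
      by_contra hcon
      push Not at hcon
      exact h25 ((pow_dvd_pow 5 hcon).mul_right _)
    exact (pow_dvd_pow 5 (show j ≤ 1 by omega)).trans (by norm_num)
  obtain ⟨k, hk⟩ := hd5
  have hk' : 5 * (Y : ℤ) = d * k := by exact_mod_cast hk
  have hYd : (Y : ℤ) < d := by linarith
  have hd5 : 4 * (d : ℤ) < 5 * Y := by linarith
  have hk5 : k < 5 := by
    by_contra hcon
    push Not at hcon
    have h5 : (5 : ℤ) ≤ k := by exact_mod_cast hcon
    have h6 := mul_le_mul_of_nonneg_left h5 hd0'.le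
    linarith
  have hk4 : (k : ℤ) ≤ 4 := by
    have : k ≤ 4 := by omega
    exact_mod_cast this
  have h6 := mul_le_mul_of_nonneg_left hk4 hd0'.le
  linarith

theorem caseB (hp : p.Prime) (hq : q = p ^ a) (hQ : Q = (q : ℤ)) (hQ4 : 4 ≤ Q) (hq6 : Q ≠ 6) (hq10 : Q ≠ 10)
    {Y N : ℕ} (hX : (Y : ℤ) = (Q ^ 6 - 1) ^ 2) (hP : (N : ℤ) = Q ^ 4 - Q ^ 2 + 1)
    (h3' : 2 * (e3 : ℤ) = Q ^ 3 * (Q ^ 3 + 1) ^ 2) (hb : b ∣ q ^ 12 * Y) (hd : d ∣ q ^ 12 * Y) (hpQ : (p : ℤ) ∣ Q)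
    (hp3 : (p : ℤ) ∣ e3) (hpd : p ∣ d) (hf : f = 1 ∨ f = -1) (hε : ε = 1 ∨ ε = -1)
    (h' : 1 + Q ^ 12 - e3 + f * b = ε * d) (hb0' : (0 : ℤ) < b) (hd0' : (0 : ℤ) < d) (hfb : (N : ℤ) ∣ f * b - 1)
    {m : ℤ} (hm : m ∣ Q ^ 3) (hm0 : 0 < m) (hm2 : Q ^ 3 ≤ 2 * m) (hm3 : ∀ z : ℤ, Q ^ 3 ∣ 2 * z → m ∣ z) : False := by
  obtain ⟨g3, g6, g9, g12⟩ := atoms hQ4
  have hX' : (Y : ℤ) = Q ^ 12 - 2 * Q ^ 6 + 1 := by rw [hX]; ring
  have h3'' : 2 * (e3 : ℤ) = Q ^ 9 + 2 * Q ^ 6 + Q ^ 3 := by rw [h3']; ring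
  have hff : f * f = 1 := by rcases hf with rfl | rfl <;> norm_num
  have hpb : ¬ p ∣ b := by
    intro hpb
    have e1 : (1 : ℤ) = ε * d - f * b - Q ^ 12 + e3 := by rw [← h']; ring
    have h5 : (p : ℤ) ∣ 1 := by
      rw [e1]
      refine dvd_add (dvd_sub (dvd_sub (Dvd.dvd.mul_left (by exact_mod_cast hpd) _)
        (Dvd.dvd.mul_left (by exact_mod_cast hpb) _)) (dvd_pow hpQ (by norm_num))) hp3
    have h6 : p ∣ 1 := by exact_mod_cast h5
    exact hp.one_lt.ne' (Nat.dvd_one.1 h6)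
  have hbY : b ∣ Y := by
    refine Nat.Coprime.dvd_of_dvd_mul_left ?_ hb
    rw [hq, ← pow_mul]
    exact (((Nat.Prime.coprime_iff_not_dvd hp).2 hpb).pow_left _).symm
  obtain ⟨c, hc⟩ := hbY
  have hY0 : (0 : ℤ) < Y := by linarith
  have hc0 : 0 < c := by
    rcases Nat.eq_zero_or_pos c with h0 | h0
    · rw [h0, mul_zero] at hc
      rw [hc] at hY0
      exact absurd hY0 (by norm_num)
    · exact h0
  have hc0' : (0 : ℤ) < c := by exact_mod_cast hc0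
  have hbc : (b : ℤ) * c = Y := by rw [hc]; push_cast; rfl
  have hprod : (f * b) * (f * c) = Y := by
    calc (f * b) * (f * c) = (f * f) * (b * c) := by ring
      _ = Y := by rw [hff, hbc, one_mul]
  have hfc : (N : ℤ) ∣ f * c - 4 := by
    have e1 : f * c - 4 = ((Y : ℤ) - 4) - (f * c) * (f * b - 1) := by rw [← hprod]; ring
    rw [e1]
    exact dvd_sub ⟨_, X_sub_four hP hX⟩ (hfb.mul_left _)
  by_cases h0 : f * c - 4 = 0
  · have hf1 : f = 1 := by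
      rcases hf with h1 | h1
      · exact h1
      · rw [h1] at h0
        linarith
    have hc4 : (c : ℤ) = 4 := by rw [hf1] at h0; linarith
    rw [hc4] at hbc
    rw [hf1, one_mul] at h'
    exact caseB4 hp hq hQ4 hX h3' hd hpQ hpd hbc hε h' hd0'
  · have hcP := le_cof hf hc0' (by norm_num) hfc h0
    have hbP : (b : ℤ) * ((N : ℤ) - 4) ≤ Y := by
      rw [← hbc]
      exact mul_le_mul_of_nonneg_left hcP hb0'.le
    obtain ⟨i1, i2⟩ := ineq hQ4 hP hX hbP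
    have hfb1 : f * b ≤ b := by
      rcases hf with h1 | h1 <;> rw [h1] <;> linarith
    have hfb2 : -(b : ℤ) ≤ f * b := by
      rcases hf with h1 | h1 <;> rw [h1] <;> linarith
    have hε1 : ε = 1 := by
      rcases hε with h1 | h1
      · exact h1
      · rw [h1] at h'
        exfalso
        linarith
    rw [hε1, one_mul] at h'
    have hdY : (d : ℤ) < Y := by linarith
    have hdY' : d < Y := by exact_mod_cast hdY
    have hq3 : q ^ 3 * (Y - d) < d := by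
      have : ((q ^ 3 * (Y - d) : ℕ) : ℤ) < d := by
        rw [Nat.cast_mul, Nat.cast_sub hdY'.le, Nat.cast_pow, ← hQ]
        exact q3_lt hQ4 (z := b) (by linarith) i2 (by linarith)
      exact_mod_cast this
    have hqd := q3_dvd hp hq hd hdY' hq3
    have hqd' : Q ^ 3 ∣ (d : ℤ) := by rw [hQ]; exact_mod_cast hqd
    have hm4 : m ∣ f * b + 1 := by
      apply hm3
      have e1 : 2 * (f * b + 1) = 2 * d - Q ^ 3 * (2 * Q ^ 9 - Q ^ 6 - 2 * Q ^ 3 - 1) := by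
        linear_combination 2 * h' + h3'
      rw [e1]
      exact dvd_sub (hqd'.mul_left _) (dvd_mul_right _ _)
    exact core_b hQ4 hq6 hq10 hm hm0 hm2 hP hX hb0' hbc hf hfb hm4 hbP

theorem caseD (hp : p.Prime) (hq : q = p ^ a) (hQ : Q = (q : ℤ)) (hQ4 : 4 ≤ Q) (hq6 : Q ≠ 6)
    {Y N : ℕ} (hX : (Y : ℤ) = (Q ^ 6 - 1) ^ 2) (hP : (N : ℤ) = Q ^ 4 - Q ^ 2 + 1)
    (h3' : 2 * (e3 : ℤ) = Q ^ 3 * (Q ^ 3 + 1) ^ 2) (hb : b ∣ q ^ 12 * Y) (hd : d ∣ q ^ 12 * Y)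
    (hpd : ¬ p ∣ d) (hf : f = 1 ∨ f = -1) (hε : ε = 1 ∨ ε = -1)
    (h' : 1 + Q ^ 12 - e3 + f * b = ε * d) (hb0' : (0 : ℤ) < b) (hd0' : (0 : ℤ) < d) (hfb : (N : ℤ) ∣ f * b - 1)
    {m : ℤ} (hm : m ∣ Q ^ 3) (hm0 : 0 < m) (hm2 : Q ^ 3 ≤ 2 * m) (hm3 : ∀ z : ℤ, Q ^ 3 ∣ 2 * z → m ∣ z) :
    f = 1 ∧ ε = 1 ∧ d = Y := by
  obtain ⟨g3, g6, g9, g12⟩ := atoms hQ4
  have hX' : (Y : ℤ) = Q ^ 12 - 2 * Q ^ 6 + 1 := by rw [hX]; ring
  have h3'' : 2 * (e3 : ℤ) = Q ^ 9 + 2 * Q ^ 6 + Q ^ 3 := by rw [h3']; ring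
  have hee : ε * ε = 1 := by rcases hε with rfl | rfl <;> norm_num
  have hdY : d ∣ Y := by
    refine Nat.Coprime.dvd_of_dvd_mul_left ?_ hd
    rw [hq, ← pow_mul]
    exact (((Nat.Prime.coprime_iff_not_dvd hp).2 hpd).pow_left _).symm
  obtain ⟨c, hc⟩ := hdY
  have hY0 : (0 : ℤ) < Y := by linarith
  have hc0 : 0 < c := by
    rcases Nat.eq_zero_or_pos c with h0 | h0
    · rw [h0, mul_zero] at hc
      rw [hc] at hY0
      exact absurd hY0 (by norm_num)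
    · exact h0
  have hc0' : (0 : ℤ) < c := by exact_mod_cast hc0
  have hdc : (d : ℤ) * c = Y := by rw [hc]; push_cast; rfl
  have hprod : (ε * d) * (ε * c) = Y := by
    calc (ε * d) * (ε * c) = (ε * ε) * (d * c) := by ring
      _ = Y := by rw [hee, hdc, one_mul]
  have hcop := coprime_four hP
  have hed : (N : ℤ) ∣ ε * d - 4 := by
    have h2 : IsCoprime (N : ℤ) 2 := by
      have : (4 : ℤ) = 2 * 2 := by norm_num
      rw [this] at hcop
      exact hcop.of_mul_right_left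
    have e1 : 2 * (ε * d - 4) = (N : ℤ) * ((Q ^ 2 + 1) * (2 * Q ^ 6 - Q ^ 3 - 4)) + 2 * (f * b - 1) := by
      rw [hP]
      linear_combination (-2) * h' - h3'
    have h5 : (N : ℤ) ∣ 2 * (ε * d - 4) := by
      rw [e1]
      exact dvd_add (dvd_mul_right _ _) (hfb.mul_left _)
    exact h2.dvd_of_dvd_mul_left h5
  have hec : (N : ℤ) ∣ ε * c - 1 := by
    have e1 : 4 * (ε * c - 1) = ((Y : ℤ) - 4) - (ε * c) * (ε * d - 4) := by rw [← hprod]; ring
    have h3 : (N : ℤ) ∣ 4 * (ε * c - 1) := by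
      rw [e1]
      exact dvd_sub ⟨_, X_sub_four hP hX⟩ (hed.mul_left _)
    exact hcop.dvd_of_dvd_mul_left h3
  by_cases h0 : ε * c - 1 = 0
  · have hε1 : ε = 1 := by
      rcases hε with h1 | h1
      · exact h1
      · rw [h1] at h0
        linarith
    have hc1 : (c : ℤ) = 1 := by rw [hε1] at h0; linarith
    have hc1' : c = 1 := by exact_mod_cast hc1
    rw [hc1', mul_one] at hc
    refine ⟨?_, hε1, hc.symm⟩
    rcases hf with h1 | h1
    · exact h1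
    · exfalso
      rw [h1, hε1, one_mul] at h'
      have : (d : ℤ) = Y := by rw [hc]
      linarith
  · exfalso
    have hcP := le_cof hε hc0' (by norm_num) hec h0
    have hdP : (d : ℤ) * ((N : ℤ) - 4) ≤ Y := by
      have h5 : (d : ℤ) * ((N : ℤ) - 4) ≤ d * c := mul_le_mul_of_nonneg_left (by linarith) hd0'.le
      linarith
    obtain ⟨i1, i2⟩ := ineq hQ4 hP hX hdP
    have hed1 : ε * d ≤ d := by
      rcases hε with h1 | h1 <;> rw [h1] <;> linarith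
    have hed2 : -(d : ℤ) ≤ ε * d := by
      rcases hε with h1 | h1 <;> rw [h1] <;> linarith
    have hf1 : f = -1 := by
      rcases hf with h1 | h1
      · exfalso
        rw [h1] at h'
        linarith
      · exact h1
    rw [hf1] at h' hfb
    have hbY : (b : ℤ) < Y := by linarith
    have hbY' : b < Y := by exact_mod_cast hbY
    have hq3 : q ^ 3 * (Y - b) < b := by
      have : ((q ^ 3 * (Y - b) : ℕ) : ℤ) < b := by
        rw [Nat.cast_mul, Nat.cast_sub hbY'.le, Nat.cast_pow, ← hQ]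
        exact q3_lt hQ4 (z := d) (by linarith) i2 (by linarith)
      exact_mod_cast this
    have hqb := q3_dvd hp hq hb hbY' hq3
    have hqb' : Q ^ 3 ∣ (b : ℤ) := by rw [hQ]; exact_mod_cast hqb
    have hm4 : m ∣ ε * d - 1 := by
      apply hm3
      have e1 : 2 * (ε * d - 1) = Q ^ 3 * (2 * Q ^ 9 - Q ^ 6 - 2 * Q ^ 3 - 1) - 2 * b := by
        linear_combination (-2) * h' - h3'
      rw [e1]
      exact dvd_sub (dvd_mul_right _ _) (hqb'.mul_left _)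
    have hlt : 4 * (d : ℤ) < Q ^ 12 := by linarith
    exact core_d hQ4 hq6 hm hm0 hm2 hP hX hd0' hdc hε hed hm4 hlt

end

theorem not_six {p a : ℕ} (hp : p.Prime) (h : p ^ a = 6) : False := by
  have h2 : 2 ∣ p ^ a := by rw [h]; norm_num
  have h3 : 3 ∣ p ^ a := by rw [h]; norm_num
  have e2 := (Nat.prime_dvd_prime_iff_eq Nat.prime_two hp).1 (Nat.prime_two.dvd_of_dvd_pow h2)
  have e3 := (Nat.prime_dvd_prime_iff_eq Nat.prime_three hp).1 (Nat.prime_three.dvd_of_dvd_pow h3)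
  omega

theorem not_ten {p a : ℕ} (hp : p.Prime) (h : p ^ a = 10) : False := by
  have h2 : 2 ∣ p ^ a := by rw [h]; norm_num
  have h3 : 5 ∣ p ^ a := by rw [h]; norm_num
  have e2 := (Nat.prime_dvd_prime_iff_eq Nat.prime_two hp).1 (Nat.prime_two.dvd_of_dvd_pow h2)
  have e3 := (Nat.prime_dvd_prime_iff_eq Nat.prime_five hp).1 (Nat.prime_five.dvd_of_dvd_pow h3)
  omega

/-- **The degrees.** -/
theorem deg_td {p a q N b d e3 : ℕ} (hp : p.Prime) (ha : 0 < a) (hq : q = p ^ a) (h4 : 4 ≤ q)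
    (hN : N + q ^ 2 = q ^ 4 + 1) (h3 : 2 * e3 = q ^ 3 * (q ^ 3 + 1) ^ 2) {f ε : ℤ} (hf : f = 1 ∨ f = -1)
    (hε : ε = 1 ∨ ε = -1) (hb : b ∣ q ^ 12 * (q ^ 6 - 1) ^ 2) (hd : d ∣ q ^ 12 * (q ^ 6 - 1) ^ 2)
    (hbN : (N : ℤ) ∣ b - f) (h : (1 : ℤ) + (q ^ 12 : ℕ) - e3 + f * b = ε * d) :
    f = 1 ∧ ε = 1 ∧ 2 * b = q ^ 3 * (q ^ 3 - 1) ^ 2 ∧ d = (q ^ 6 - 1) ^ 2 := by
  have hq0 : 0 < q := by omega
  have hpq : p ∣ q := by rw [hq]; exact dvd_pow_self p ha.ne'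
  have hq6 : (q : ℤ) ≠ 6 := by
    intro h6
    exact not_six hp (a := a) (by rw [← hq]; exact_mod_cast h6)
  have hq10 : (q : ℤ) ≠ 10 := by
    intro h6
    exact not_ten hp (a := a) (by rw [← hq]; exact_mod_cast h6)
  obtain ⟨Y, hY⟩ : ∃ Y, Y = (q ^ 6 - 1) ^ 2 := ⟨_, rfl⟩
  obtain ⟨Q, hQ⟩ : ∃ Q : ℤ, Q = (q : ℤ) := ⟨_, rfl⟩
  have hQ4 : 4 ≤ Q := by rw [hQ]; exact_mod_cast h4
  have h1q : 1 ≤ q ^ 6 := Nat.one_le_pow _ _ hq0
  have h1q3 : 1 ≤ q ^ 3 := Nat.one_le_pow _ _ hq0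
  have hX : (Y : ℤ) = (Q ^ 6 - 1) ^ 2 := by
    rw [hY, hQ, Nat.cast_pow, Nat.cast_sub h1q, Nat.cast_pow, Nat.cast_one]
  have hP : (N : ℤ) = Q ^ 4 - Q ^ 2 + 1 := by
    have : ((N + q ^ 2 : ℕ) : ℤ) = ((q ^ 4 + 1 : ℕ) : ℤ) := by rw [hN]
    push_cast at this
    rw [hQ]
    linarith
  have h3' : 2 * (e3 : ℤ) = Q ^ 3 * (Q ^ 3 + 1) ^ 2 := by
    have : ((2 * e3 : ℕ) : ℤ) = ((q ^ 3 * (q ^ 3 + 1) ^ 2 : ℕ) : ℤ) := by rw [h3]
    push_cast at this
    rw [hQ]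
    exact this
  have h' : 1 + Q ^ 12 - e3 + f * b = ε * d := by
    rw [← h, hQ]
    push_cast
    ring
  rw [← hY] at hb hd ⊢
  obtain ⟨g3, g6, g9, g12⟩ := atoms hQ4
  have hX' : (Y : ℤ) = Q ^ 12 - 2 * Q ^ 6 + 1 := by rw [hX]; ring
  have hY0 : 0 < Y := by
    have : (0 : ℤ) < Y := by linarith
    exact_mod_cast this
  have hT0 : 0 < q ^ 12 * Y := by positivity
  have hb0' : (0 : ℤ) < b := by exact_mod_cast Nat.pos_of_dvd_of_pos hb hT0
  have hd0' : (0 : ℤ) < d := by exact_mod_cast Nat.pos_of_dvd_of_pos hd hT0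
  have hfb : (N : ℤ) ∣ f * b - 1 := by
    have hff : f * f = 1 := by rcases hf with rfl | rfl <;> norm_num
    have e1 : f * b - 1 = f * (b - f) := by rw [mul_sub, hff]
    rw [e1]
    exact hbN.mul_left _
  obtain ⟨m, hm, hm0, hm2, hm3⟩ := exists_m q hq0
  rw [← hQ] at hm hm2 hm3 hq6 hq10
  have hpQ : (p : ℤ) ∣ Q := by rw [hQ]; exact_mod_cast hpq
  have hp3 : (p : ℤ) ∣ e3 := by exact_mod_cast prime_dvd_e3 hp ha hq h3
  by_cases hpd : p ∣ d
  · exact (caseB hp hq hQ hQ4 hq6 hq10 hX hP h3' hb hd hpQ hp3 hpd hf hε h' hb0' hd0' hfb hm hm0 hm2 hm3).elim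
  · obtain ⟨r1, r2, r3⟩ := caseD hp hq hQ hQ4 hq6 hX hP h3' hb hd hpd hf hε h' hb0' hd0' hfb hm hm0 hm2 hm3
    refine ⟨r1, r2, ?_, r3⟩
    have e1 : ((2 * b : ℕ) : ℤ) = ((q ^ 3 * (q ^ 3 - 1) ^ 2 : ℕ) : ℤ) := by
      rw [Nat.cast_mul, Nat.cast_mul, Nat.cast_pow, Nat.cast_pow, Nat.cast_sub h1q3, Nat.cast_pow, ← hQ]
      rw [r1, r2, r3, hX'] at h'
      push_cast
      linear_combination 2 * h' + h3'
    exact_mod_cast e1

/-- with the factor `Φ₁₂(q)` of the order -/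
theorem deg_unique {q b d P e3 : ℕ} {ε f : ℤ} (hq : IsPrimePow q) (h4 : 4 ≤ q) (hP : P + q ^ 2 = q ^ 4 + 1)
    (h3 : 2 * e3 = q ^ 3 * (q ^ 3 + 1) ^ 2) (hε : ε = 1 ∨ ε = -1) (hf : f = 1 ∨ f = -1)
    (hd : d ∣ q ^ 12 * (q ^ 6 - 1) ^ 2 * P) (hb : b ∣ q ^ 12 * (q ^ 6 - 1) ^ 2 * P) (hd1 : (P : ℤ) ∣ d - 4 * ε)
    (hb1 : (P : ℤ) ∣ b - f) (h : (1 : ℤ) + (q ^ 12 : ℕ) - e3 + f * b = ε * d) :
    f = 1 ∧ ε = 1 ∧ 2 * b = q ^ 3 * (q ^ 3 - 1) ^ 2 ∧ d = (q ^ 6 - 1) ^ 2 := by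
  obtain ⟨p, a, hp, ha, rfl⟩ := hq
  have hP' : (P : ℤ) = ((p ^ a : ℕ) : ℤ) ^ 4 - ((p ^ a : ℕ) : ℤ) ^ 2 + 1 := by
    have : ((P + (p ^ a) ^ 2 : ℕ) : ℤ) = (((p ^ a) ^ 4 + 1 : ℕ) : ℤ) := by rw [hP]
    push_cast at this ⊢
    linarith
  have hff : f * f = 1 := by rcases hf with rfl | rfl <;> norm_num
  have hee : ε * ε = 1 := by rcases hε with rfl | rfl <;> norm_num
  have c1 : IsCoprime (b : ℤ) (P : ℤ) := by
    obtain ⟨k, hk⟩ := hb1
    exact ⟨f, -(f * k), by linear_combination f * hk + hff⟩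
  have c2 : IsCoprime (d : ℤ) (P : ℤ) := by
    obtain ⟨k, hk⟩ := hd1
    obtain ⟨u, v, huv⟩ := coprime_four hP'
    exact ⟨ε * v, u - ε * v * k, by linear_combination ε * v * hk + 4 * v * hee + huv⟩
  refine deg_td (Nat.prime_iff.2 hp) ha rfl h4 hP h3 hf hε ?_ ?_ hb1 h
  · exact (Nat.isCoprime_iff_coprime.1 c1).dvd_of_dvd_mul_right hb
  · exact (Nat.isCoprime_iff_coprime.1 c2).dvd_of_dvd_mul_right hd

end glue

end Cfsg.Agent.H568.TD
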